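import Groth.Prelude.Def_DeltaF
import Groth.Agent.RDerLib.Universal

/-!
# When is a morphism of delta-functors an isomorphism
-/

set_option autoImplicit false
universe w v u

open CategoryTheory CategoryTheory.Limits

noncomputable section

namespace DeltaIsoLib

/-- Filtered colimits of abelian groups in elements, any universe of indices. -/
theorem colimit_rep {J : Type v} [SmallCategory J] [IsFiltered J] {K : J ⥤ AddCommGrpCat.{w}}
    {c : Cocone K} (hc : IsColimit c) :
    (∀ x : c.pt, ∃ (j : J) (a : K.obj j), c.ι.app j a = x) ∧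
    ∀ (j : J) (a : K.obj j), c.ι.app j a = 0 → ∃ (k : J) (f : j ⟶ k), K.map f a = 0 := by
  let U : AddCommGrpCat.{w} ⥤ AddCommGrpCat.{max v w} := AddCommGrpCat.uliftFunctor.{v, w}
  let e : J ≌ AsSmall.{w} J := AsSmall.equiv
  have hc' := (isColimitOfPreserves U hc).whiskerEquivalence e.symm
  refine ⟨fun x => ?_, fun j a ha => ?_⟩
  · obtain ⟨j, a, hja⟩ := Concrete.isColimit_exists_rep _ hc' (ULift.up x)
    exact ⟨_, a.down, congrArg ULift.down hja⟩
  · let D := (U.mapCocone c).whisker e.inverse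
    let j' : AsSmall.{w} J := ULift.up j
    have h0 : D.ι.app j' (ULift.up a) = D.ι.app j' (ULift.up 0) := by
      change ULift.up (c.ι.app j a) = ULift.up (c.ι.app j 0)
      rw [ha, map_zero]
    obtain ⟨k, f, g, hfg⟩ := (Concrete.isColimit_rep_eq_iff_exists _ hc' _ _).1 h0
    refine ⟨ULift.down k, ULift.down f, ?_⟩
    have h1 := congrArg ULift.down hfg
    exact h1.trans (map_zero _)

variable {C : Type u} [Category.{v} C] [Abelian C] {T T' : DeltaF.CohDeltaFunctor C AddCommGrpCat.{w} ℕ}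
  (φ : T ⟶ T')

/-- The component of `φ`. -/
abbrev t (q : ℕ) (A : C) : (T.F q).obj A ⟶ (T'.F q).obj A := (φ.app q).app A

theorem t_map (q : ℕ) {A B : C} (u : A ⟶ B) (a : (T.F q).obj A) :
    t φ q B ((T.F q).map u a) = (T'.F q).map u (t φ q A a) :=
  congr($((φ.app q).naturality u) a)

theorem t_δ {S : ShortComplex C} (hS : S.ShortExact) (q : ℕ) (x : (T.F q).obj S.X₃) :
    t φ (q + 1) S.X₁ (T.δ S hS q (q + 1) rfl x) = T'.δ S hS q (q + 1) rfl (t φ q S.X₃ x) :=
  congr($(φ.comm S hS q (q + 1) rfl) x)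

theorem map_δ {S : ShortComplex C} (hS : S.ShortExact) (q : ℕ) (x : (T.F q).obj S.X₃) :
    (T.F (q + 1)).map S.f (T.δ S hS q (q + 1) rfl x) = 0 :=
  congr($(T.δ_comp S hS q (q + 1) rfl) x)

theorem δ_map {S : ShortComplex C} (hS : S.ShortExact) (q : ℕ) (x : (T.F q).obj S.X₂) :
    T.δ S hS q (q + 1) rfl ((T.F q).map S.g x) = 0 :=
  congr($(T.comp_δ S hS q (q + 1) rfl) x)

variable (T) in
theorem exact_f {S : ShortComplex C} (hS : S.ShortExact) {q : ℕ} {z : (T.F (q + 1)).obj S.X₁}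
    (h : (T.F (q + 1)).map S.f z = 0) : ∃ x, T.δ S hS q (q + 1) rfl x = z :=
  (ShortComplex.ab_exact_iff _).1 (T.exact₁ S hS q (q + 1) rfl) z h

variable (T) in
theorem exact_δ {S : ShortComplex C} (hS : S.ShortExact) {q : ℕ} {x : (T.F q).obj S.X₃}
    (h : T.δ S hS q (q + 1) rfl x = 0) : ∃ m, (T.F q).map S.g m = x :=
  (ShortComplex.ab_exact_iff _).1 (T.exact₃ S hS q (q + 1) rfl) x h

variable (T) in
theorem exact_g {S : ShortComplex C} (hS : S.ShortExact) {q : ℕ} {m : (T.F q).obj S.X₂}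
    (h : (T.F q).map S.g m = 0) : ∃ a, (T.F q).map S.f a = m :=
  (ShortComplex.ab_exact_iff _).1 (T.exact₂ S hS q) m h

variable (T) in
theorem injective_f (hT : T.ZeroMono) {S : ShortComplex C} (hS : S.ShortExact) :
    Function.Injective ((T.F 0).map S.f) :=
  (AddCommGrpCat.mono_iff_injective _).1 (hT S hS)

/-- One element in the injectivity step. -/
theorem eq_zero_of {S : ShortComplex C} (hS : S.ShortExact) {q : ℕ}
    (h₂ : Function.Surjective (t φ q S.X₂)) (h₃ : Function.Injective (t φ q S.X₃))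
    {a : (T.F (q + 1)).obj S.X₁} (ha : t φ (q + 1) S.X₁ a = 0) (hfa : (T.F (q + 1)).map S.f a = 0) :
    a = 0 := by
  obtain ⟨x, rfl⟩ := exact_f T hS hfa
  rw [t_δ] at ha
  obtain ⟨y, hy⟩ := exact_δ T' hS ha
  obtain ⟨m, rfl⟩ := h₂ y
  rw [← t_map] at hy
  rw [← h₃ hy, δ_map]

/-- One element in the surjectivity step. -/
theorem exists_of {S : ShortComplex C} (hS : S.ShortExact) {q : ℕ}
    (h₃ : Function.Surjective (t φ q S.X₃)) (y : (T'.F (q + 1)).obj S.X₁) (m : (T.F (q + 1)).obj S.X₂)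
    (hm : t φ (q + 1) S.X₂ m = (T'.F (q + 1)).map S.f y) (hgm : (T.F (q + 1)).map S.g m = 0) :
    ∃ a, t φ (q + 1) S.X₁ a = y := by
  obtain ⟨a, rfl⟩ := exact_g T hS hgm
  rw [t_map] at hm
  have h0 : (T'.F (q + 1)).map S.f (y - t φ (q + 1) S.X₁ a) = 0 := by rw [map_sub, hm, sub_self]
  obtain ⟨x, hx⟩ := exact_f T' hS h0
  obtain ⟨x, rfl⟩ := h₃ x
  refine ⟨a + T.δ S hS q (q + 1) rfl x, ?_⟩
  rw [map_add, t_δ, hx]
  abel

theorem gm_eq_zero {S : ShortComplex C} {q : ℕ} (h : Function.Injective (t φ q S.X₃))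
    {y : (T'.F q).obj S.X₁} {m : (T.F q).obj S.X₂} (hm : t φ q S.X₂ m = (T'.F q).map S.f y) :
    (T.F q).map S.g m = 0 := by
  refine h ?_
  rw [t_map, hm, map_zero, ← ConcreteCategory.comp_apply, ← Functor.map_comp, S.zero, Functor.map_zero]
  rfl

/-- Degree zero, surjectivity. -/
theorem exists_zero (hT' : T'.ZeroMono) {S : ShortComplex C} (hS : S.ShortExact)
    (h₃ : Function.Injective (t φ 0 S.X₃)) (y : (T'.F 0).obj S.X₁) (m : (T.F 0).obj S.X₂)
    (hm : t φ 0 S.X₂ m = (T'.F 0).map S.f y) : ∃ a, t φ 0 S.X₁ a = y := by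
  obtain ⟨a, rfl⟩ := exact_g T hS (gm_eq_zero φ h₃ hm)
  rw [t_map] at hm
  exact ⟨a, injective_f T' hT' hS hm⟩

theorem injective_zero (hT : T.ZeroMono) {S : ShortComplex C} (hS : S.ShortExact)
    (h₂ : Function.Injective (t φ 0 S.X₂)) : Function.Injective (t φ 0 S.X₁) := by
  refine (injective_iff_map_eq_zero _).2 fun a ha => injective_f T hT hS ?_
  rw [map_zero]
  apply h₂
  rw [t_map, ha, map_zero, map_zero]

theorem isIso_iff {q : ℕ} {A : C} : IsIso ((φ.app q).app A) ↔ Function.Bijective (t φ q A) :=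
  ConcreteCategory.isIso_iff_bijective _

open Groth.Agent.RDerLib in
/-- Effaceable case. -/
theorem bijective_of_effaceable (hT0 : T.ZeroMono) (hT'0 : T'.ZeroMono)
    (hT : ∀ (q : ℕ) (A : C) (α : (T.F (q + 1)).obj A),
      ∃ (M : C) (u : A ⟶ M), Mono u ∧ (T.F (q + 1)).map u α = 0)
    (E : ObjectProperty C) (hE : ∀ A : C, ∃ (M : C) (i : A ⟶ M), Mono i ∧ E M)
    (h0 : ∀ M, E M → Function.Bijective (t φ 0 M))
    (hs : ∀ (q : ℕ) (M : C), E M → Function.Surjective (t φ (q + 1) M)) :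
    ∀ (q : ℕ) (A : C), Function.Bijective (t φ q A) := by
  intro q
  induction q with
  | zero =>
    have hinj : ∀ A, Function.Injective (t φ 0 A) := fun A => by
      obtain ⟨M, i, hi, hM⟩ := hE A
      exact injective_zero φ hT0 (cokSeq_shortExact i) (h0 M hM).1
    intro A
    refine ⟨hinj A, fun y => ?_⟩
    obtain ⟨M, i, hi, hM⟩ := hE A
    obtain ⟨m, hm⟩ := (h0 M hM).2 ((T'.F 0).map i y)
    exact exists_zero φ hT'0 (cokSeq_shortExact i) (hinj _) y m hm
  | succ q ih =>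
    have hinj : ∀ A, Function.Injective (t φ (q + 1) A) := fun A => by
      refine (injective_iff_map_eq_zero _).2 fun a ha => ?_
      obtain ⟨M, u, hu, hua⟩ := hT q A a
      exact eq_zero_of φ (cokSeq_shortExact u) (ih _).2 (ih _).1 ha hua
    intro A
    refine ⟨hinj A, fun y => ?_⟩
    obtain ⟨M, i, hi, hM⟩ := hE A
    obtain ⟨m, hm⟩ := hs q M hM ((T'.F (q + 1)).map i y)
    exact exists_of φ (cokSeq_shortExact i) (ih _).2 y m hm (gm_eq_zero φ (S := cokSeq i) (hinj _) hm)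

open Groth.Agent.RDerLib in
/-- Effaceable target case: surjectivity on all objects. -/
theorem surjective_of_effaceable
    (h0 : ∀ A, Function.Bijective (t φ 0 A))
    (hT' : ∀ (q : ℕ) (A : C) (α : (T'.F (q + 1)).obj A),
      ∃ (M : C) (u : A ⟶ M), Mono u ∧ (T'.F (q + 1)).map u α = 0) :
    ∀ (q : ℕ) (A : C), Function.Surjective (t φ q A) := by
  intro q
  induction q with
  | zero => exact fun A => (h0 A).2
  | succ q ih =>
    intro A y
    obtain ⟨M, u, hu, huy⟩ := hT' q A y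
    exact exists_of φ (cokSeq_shortExact u) (ih _) y 0 (by rw [map_zero]; exact huy.symm) (map_zero _)

section Colim

variable [∀ n, PreservesFilteredColimitsOfSize.{v, v} (T.F n)]
  [∀ n, PreservesFilteredColimitsOfSize.{v, v} (T'.F n)]
  {J : Type v} [SmallCategory J] [IsFiltered J] {K : J ⥤ C} {c : Cocone K} (hc : IsColimit c) {q : ℕ}

include hc in
theorem injective_colim (h : ∀ j, Function.Injective (t φ q (K.obj j))) :
    Function.Injective (t φ q c.pt) := by
  refine (injective_iff_map_eq_zero _).2 fun x hx => ?_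
  obtain ⟨j, a, rfl⟩ := (colimit_rep (isColimitOfPreserves (T.F q) hc)).1 x
  have h1 : (T'.F q).map (c.ι.app j) (t φ q (K.obj j) a) = 0 := (t_map φ q _ a).symm.trans hx
  obtain ⟨k, f, hk⟩ := (colimit_rep (isColimitOfPreserves (T'.F q) hc)).2 j _ h1
  have h2 : (T.F q).map (K.map f) a = 0 := h k (by rw [t_map, map_zero]; exact hk)
  change (T.F q).map (c.ι.app j) a = 0
  rw [← c.w f, Functor.map_comp, ConcreteCategory.comp_apply, h2, map_zero]

include hc in
theorem surjective_colim (h : ∀ j, Function.Surjective (t φ q (K.obj j))) :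
    Function.Surjective (t φ q c.pt) := by
  intro y
  obtain ⟨j, b, rfl⟩ := (colimit_rep (isColimitOfPreserves (T'.F q) hc)).1 y
  obtain ⟨a, rfl⟩ := h j b
  exact ⟨(T.F q).map (c.ι.app j) a, t_map φ q _ a⟩

end Colim

theorem bijective_iso {q : ℕ} {A B : C} (e : A ≅ B) (h : Function.Bijective (t φ q A)) :
    Function.Bijective (t φ q B) := by
  rw [← isIso_iff] at h ⊢
  exact (NatTrans.isIso_app_iff_of_iso _ e).1 h

open Groth.Agent.RDerLib in
/-- Filtered colimit case. -/
theorem bijective_of_filteredColimits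
    (hT0 : T.ZeroMono) (hT'0 : T'.ZeroMono)
    [∀ n, PreservesFilteredColimitsOfSize.{v, v} (T.F n)] [∀ n, PreservesFilteredColimitsOfSize.{v, v} (T'.F n)]
    (D E : ObjectProperty C)
    (hD : ∀ A : C, ∃ (J : Type v) (_ : SmallCategory J) (_ : IsFiltered J) (K : J ⥤ C) (c : Cocone K)
      (_ : IsColimit c), (∀ j, D (K.obj j)) ∧ Nonempty (c.pt ≅ A))
    (hE : ∀ A : C, D A → ∃ (M : C) (i : A ⟶ M), Mono i ∧ E M)
    (h : ∀ (q : ℕ) (M : C), E M → Function.Bijective (t φ q M)) :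
    ∀ (q : ℕ) (A : C), Function.Bijective (t φ q A) := by
  have extI : ∀ q, (∀ A, D A → Function.Injective (t φ q A)) → ∀ A, Function.Injective (t φ q A) := by
    intro q hq A
    obtain ⟨J, _, _, K, c, hc, hK, ⟨e⟩⟩ := hD A
    refine (injective_iff_map_eq_zero _).2 fun x hx => ?_
    have h0 : (T.F q).map e.inv x = 0 :=
      injective_colim φ hc (fun j => hq _ (hK j)) (by rw [t_map, hx, map_zero, map_zero])
    have := congrArg ((T.F q).map e.hom) h0
    rwa [map_zero, ← ConcreteCategory.comp_apply, ← Functor.map_comp, e.inv_hom_id,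
      CategoryTheory.Functor.map_id, ConcreteCategory.id_apply] at this
  have extS : ∀ q, (∀ A, D A → Function.Bijective (t φ q A)) → ∀ A, Function.Bijective (t φ q A) := by
    intro q hq A
    obtain ⟨J, _, _, K, c, hc, hK, ⟨e⟩⟩ := hD A
    exact bijective_iso φ e
      ⟨injective_colim φ hc fun j => (hq _ (hK j)).1, surjective_colim φ hc fun j => (hq _ (hK j)).2⟩
  intro q
  induction q with
  | zero =>
    have hinj : ∀ A, Function.Injective (t φ 0 A) := extI 0 fun A hA => by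
      obtain ⟨M, i, hi, hM⟩ := hE A hA
      exact injective_zero φ hT0 (cokSeq_shortExact i) (h 0 M hM).1
    refine extS 0 fun A hA => ⟨hinj A, fun y => ?_⟩
    obtain ⟨M, i, hi, hM⟩ := hE A hA
    obtain ⟨m, hm⟩ := (h 0 M hM).2 ((T'.F 0).map i y)
    exact exists_zero φ hT'0 (cokSeq_shortExact i) (hinj _) y m hm
  | succ q ih =>
    have hinj : ∀ A, Function.Injective (t φ (q + 1) A) := extI _ fun A hA => by
      refine (injective_iff_map_eq_zero _).2 fun a ha => ?_
      obtain ⟨M, i, hi, hM⟩ := hE A hA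
      refine eq_zero_of φ (cokSeq_shortExact i) (ih _).2 (ih _).1 ha ((h _ M hM).1 ?_)
      rw [t_map, ha, map_zero, map_zero]
    refine extS _ fun A hA => ⟨hinj A, fun y => ?_⟩
    obtain ⟨M, i, hi, hM⟩ := hE A hA
    obtain ⟨m, hm⟩ := (h _ M hM).2 ((T'.F (q + 1)).map i y)
    exact exists_of φ (cokSeq_shortExact i) (ih _).2 y m hm (gm_eq_zero φ (S := cokSeq i) (hinj _) hm)

end DeltaIsoLib
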